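import Groth.Prelude.Def_EndRing
import Groth.Agent.Lib.CommAlgGrp.Basic
import Groth.Agent.H4.HomImage
import Groth.Agent.H63.FrobExists
import Groth.Agent.Lib.CurvField.Descend

/-!
The category of abelian varieties over a finite field whose Frobenius is killed by a polynomial:
naturality of Frobenius, finite powers, images, quotients by closed subgroups.
-/

set_option autoImplicit false
set_option linter.style.haveILetI false

universe u

open CategoryTheory CategoryTheory.Limits MonoidalCategory CartesianMonoidalCategory MonObj GrpObj AlgebraicGeometry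
open Groth.Agent.Lib Groth.Agent.Lib.GrpQ Groth.Agent.Lib.GrpQ.FfMono

namespace Groth.Agent.H48.AVCat

variable {k : Type u} [Field k]

local notation "𝒞" => Over (Spec (CommRingCat.of k))

/-- The underlying morphism of a homomorphism of commutative group objects. -/
abbrev val {G H : CommGrp 𝒞} (f : G ⟶ H) : G.X ⟶ H.X := f.hom.hom.hom

instance isMonHom_val {G H : CommGrp 𝒞} (f : G ⟶ H) : IsMonHom (val f) := f.hom.hom.isMonHom_hom

/-- A homomorphism as a morphism of commutative group objects. -/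
noncomputable def homOf {G H : CommGrp 𝒞} (f : G.X ⟶ H.X) [IsMonHom f] : G ⟶ H := EndAV.Hom.of (A := G.X) (B := H.X) f

@[simp] theorem val_homOf {G H : CommGrp 𝒞} (f : G.X ⟶ H.X) [IsMonHom f] : val (homOf f) = f := rfl

theorem val_ext {G H : CommGrp 𝒞} {f g : G ⟶ H} (h : val f = val g) : f = g := CommGrp.hom_ext _ _ h

theorem val_comp {G H K : CommGrp 𝒞} (f : G ⟶ H) (g : H ⟶ K) : val (f ≫ g) = val f ≫ val g := rfl

theorem val_id (G : CommGrp 𝒞) : val (𝟙 G) = 𝟙 G.X := rfl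

theorem val_add {G H : CommGrp 𝒞} (f g : G ⟶ H) : val (f + g) = val f * val g := rfl

theorem val_zero {G H : CommGrp 𝒞} : val (0 : G ⟶ H) = 1 := rfl

theorem eq_zero_iff {G H : CommGrp 𝒞} (f : G ⟶ H) : f = 0 ↔ val f = 1 :=
  ⟨fun h => by rw [h]; rfl, fun h => val_ext h⟩

theorem comp_sum_congr {T : 𝒞} {G H : CommGrp 𝒞} {J : Type*} (s : Finset J) (a : J → (G ⟶ H))
    (x y : T ⟶ G.X) (h : ∀ i ∈ s, x ≫ val (a i) = y ≫ val (a i)) :
    x ≫ val (∑ i ∈ s, a i) = y ≫ val (∑ i ∈ s, a i) := by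
  classical
  induction s using Finset.induction_on with
  | empty => rw [Finset.sum_empty, val_zero, MonObj.comp_one, MonObj.comp_one]
  | insert i t hi ih =>
    rw [Finset.sum_insert hi, val_add, MonObj.comp_mul, MonObj.comp_mul, h i (Finset.mem_insert_self i t),
      ih fun j hj => h j (Finset.mem_insert_of_mem hj)]

theorem comp_sum_eq_one {T : 𝒞} {G H : CommGrp 𝒞} {J : Type*} (s : Finset J) (a : J → (G ⟶ H))
    (x : T ⟶ G.X) (h : ∀ i ∈ s, x ≫ val (a i) = 1) : x ≫ val (∑ i ∈ s, a i) = 1 := by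
  rw [comp_sum_congr s a x 1 fun i hi => by rw [h i hi, MonObj.one_comp], MonObj.one_comp]

/-- `q`-Frobenius. -/
def IsFrob {G : CommGrp 𝒞} (π : G ⟶ G) : Prop :=
  (val π).left.base = 𝟙 _ ∧ ∃ hle : ∀ U : G.X.left.Opens, U ≤ (val π).left ⁻¹ᵁ U,
    ∀ (U : G.X.left.Opens) (s : Γ(G.X.left, U)), ((val π).left.appLE U U (hle U)).hom s = s ^ Nat.card k

/-- An abelian variety whose Frobenius is killed by `P`. -/
def Mem (P : Polynomial ℤ) (G : CommGrp 𝒞) : Prop :=
  IsProper G.X.hom ∧ GeometricallyIntegral G.X.hom ∧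
    ∃ π : End G, IsFrob π ∧ Polynomial.eval₂ (Int.castRingHom (End G)) π P = 0

theorem ext_of_appLE {X : Scheme.{u}} (f g : X ⟶ X) (hf : f.base = 𝟙 _) (hg : g.base = 𝟙 _)
    (hlef : ∀ U : X.Opens, U ≤ f ⁻¹ᵁ U) (hleg : ∀ U : X.Opens, U ≤ g ⁻¹ᵁ U)
    (h : ∀ U, f.appLE U U (hlef U) = g.appLE U U (hleg U)) : f = g := by
  refine Scheme.Hom.ext (hf.trans hg.symm) fun U => ?_
  have hU' : g ⁻¹ᵁ U ≤ U := fun x hx => by
    have hx' : g x ∈ U := hx
    have e : g x = x := by
      show g.base x = x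
      rw [hg]; rfl
    rwa [e] at hx'
  have e := congrArg (fun t => t ≫ X.presheaf.map (homOfLE hU').op) (h U)
  simp only [Scheme.Hom.appLE_map] at e
  rw [Scheme.Hom.app_eq_appLE, Scheme.Hom.appLE_map, Scheme.Hom.app_eq_appLE]
  exact e

theorem frob_comm [Finite k] {G H : CommGrp 𝒞} (f : G ⟶ H) {π : G ⟶ G} {ρ : H ⟶ H} (hπ : IsFrob π) (hρ : IsFrob ρ) :
    π ≫ f = f ≫ ρ := by
  haveI : Fintype k := Fintype.ofFinite k
  obtain ⟨p, hp⟩ := CharP.exists k
  obtain ⟨e, hpp, hcard⟩ := FiniteField.card k p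
  haveI : Fact p.Prime := ⟨hpp⟩
  haveI hX : ∀ B : 𝒞, FrobSch.IsCharP B.left p := fun B => FrobSch.IsCharP.of_hom B.hom p
  have key : ∀ {B : CommGrp 𝒞} {σ : B ⟶ B}, IsFrob σ → (val σ).left = H63.FrobExists.fr p B.X.left e := by
    intro B σ hσ
    obtain ⟨hb, hle, happ⟩ := hσ
    refine ext_of_appLE _ _ hb (H63.FrobExists.fr_base p _ e) hle (H63.FrobExists.le_fr p _ e) fun U => ?_
    ext s
    refine (happ U s).trans ?_
    rw [Nat.card_eq_fintype_card, hcard]
    exact (H63.FrobExists.fr_appLE p _ e U _ s).symm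
  refine val_ext (Over.OverMorphism.ext ?_)
  rw [val_comp, val_comp, Over.comp_left, Over.comp_left, key hπ, key hρ]
  exact H63.FrobExists.fr_comp p (val f).left e

theorem exists_isFrob [Finite k] (G : CommGrp 𝒞) : ∃ π : End G, IsFrob π := by
  obtain ⟨π, hb, hle, happ, hmon⟩ := H63.FrobExists.exists_frob k G.X
  haveI : IsMonHom π := hmon
  exact ⟨homOf π, hb, hle, happ⟩

theorem pol_comm {G H : CommGrp 𝒞} (f : G ⟶ H) (π : End G) (ρ : End H) (h : End.asHom π ≫ f = f ≫ End.asHom ρ)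
    (P : Polynomial ℤ) :
    End.asHom (Polynomial.eval₂ (Int.castRingHom (End G)) π P) ≫ f =
      f ≫ End.asHom (Polynomial.eval₂ (Int.castRingHom (End H)) ρ P) := by
  have hpow : ∀ n : ℕ, End.asHom (π ^ n) ≫ f = f ≫ End.asHom (ρ ^ n) := by
    intro n
    induction n with
    | zero =>
      rw [pow_zero, pow_zero]
      exact (Category.id_comp f).trans (Category.comp_id f).symm
    | succ n ih =>
      rw [pow_succ, pow_succ]
      show (End.asHom π ≫ End.asHom (π ^ n)) ≫ f = f ≫ End.asHom ρ ≫ End.asHom (ρ ^ n)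
      rw [Category.assoc, ih, ← Category.assoc, h, Category.assoc]
  induction P using Polynomial.induction_on' with
  | add p q hp hq =>
    rw [Polynomial.eval₂_add, Polynomial.eval₂_add]
    exact (Preadditive.add_comp _ _ _ _ _ _).trans ((congrArg₂ (· + ·) hp hq).trans (Preadditive.comp_add _ _ _ _ _ _).symm)
  | monomial n a =>
    rw [Polynomial.eval₂_monomial, Polynomial.eval₂_monomial, Int.coe_castRingHom, Int.coe_castRingHom,
      ← zsmul_eq_mul, ← zsmul_eq_mul]
    exact (Preadditive.zsmul_comp _ _ _).trans ((congrArg (a • ·) (hpow n)).trans (Preadditive.comp_zsmul _ _ _).symm)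

variable [Finite k] {P : Polynomial ℤ}

theorem mem_of_jointMono {G H : CommGrp 𝒞} [IsProper G.X.hom] [GeometricallyIntegral G.X.hom] (hH : Mem P H)
    {J : Type*} (ψ : J → (G ⟶ H)) (hψ : ∀ f : G ⟶ G, (∀ i, f ≫ ψ i = 0) → f = 0) : Mem P G := by
  obtain ⟨-, -, ρ, hρ, hPρ⟩ := hH
  obtain ⟨π, hπ⟩ := exists_isFrob G
  refine ⟨‹_›, ‹_›, π, hπ, hψ _ fun i => ?_⟩
  rw [show End.asHom (Polynomial.eval₂ (Int.castRingHom (End G)) π P) ≫ ψ i = _ from
    pol_comm (ψ i) π ρ (frob_comm (ψ i) hπ hρ) P, hPρ]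
  exact Limits.comp_zero

theorem mem_of_epi {G H : CommGrp 𝒞} [IsProper H.X.hom] [GeometricallyIntegral H.X.hom] (hG : Mem P G)
    (p : G ⟶ H) (hp : ∀ f : H ⟶ H, p ≫ f = 0 → f = 0) : Mem P H := by
  obtain ⟨-, -, π, hπ, hPπ⟩ := hG
  obtain ⟨ρ, hρ⟩ := exists_isFrob H
  refine ⟨‹_›, ‹_›, ρ, hρ, hp _ ?_⟩
  rw [show p ≫ End.asHom (Polynomial.eval₂ (Int.castRingHom (End H)) ρ P) = _ from
    (pol_comm p π ρ (frob_comm p hπ hρ) P).symm, hPπ]
  exact Limits.zero_comp

/-! ### Powers -/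

theorem tensor_props (G H : CommGrp 𝒞) [IsProper G.X.hom] [GeometricallyIntegral G.X.hom] [IsProper H.X.hom]
    [GeometricallyIntegral H.X.hom] : IsProper (G.X ⊗ H.X).hom ∧ GeometricallyIntegral (G.X ⊗ H.X).hom := by
  haveI : Smooth G.X.hom := H4.HomImage.smooth_of_geometricallyReduced G.X
  haveI : Smooth H.X.hom := H4.HomImage.smooth_of_geometricallyReduced H.X
  have hp : IsProper (pullback.fst G.X.hom H.X.hom ≫ G.X.hom) := inferInstance
  have hs : Smooth (pullback.fst G.X.hom H.X.hom ≫ G.X.hom) := inferInstance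
  haveI : IsProper (G.X ⊗ H.X).hom := hp
  haveI : Smooth (G.X ⊗ H.X).hom := hs
  haveI : IsIntegral G.X.left := GeometricallyIntegral.isIntegral_of_subsingleton G.X.hom
  haveI : IsLocallyNoetherian G.X.left := LocallyOfFiniteType.isLocallyNoetherian G.X.hom
  haveI : IsIntegral (G.X ⊗ H.X).left := inferInstanceAs (IsIntegral (pullback G.X.hom H.X.hom))
  haveI : GeometricallyReduced (G.X ⊗ H.X).hom := GrpSch.geometricallyReduced_of_smooth_field _
  exact ⟨inferInstance, H4.HomImage.geometricallyIntegral_of_connected _⟩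

theorem exists_prod {G H : CommGrp 𝒞} (hG : Mem P G) (hH : Mem P H) :
    ∃ (Z : CommGrp 𝒞) (p₁ : Z ⟶ G) (p₂ : Z ⟶ H) (i₁ : G ⟶ Z) (i₂ : H ⟶ Z), IsProper Z.X.hom ∧
      GeometricallyIntegral Z.X.hom ∧ i₁ ≫ p₁ = 𝟙 G ∧ i₁ ≫ p₂ = 0 ∧ i₂ ≫ p₁ = 0 ∧ i₂ ≫ p₂ = 𝟙 H ∧
      p₁ ≫ i₁ + p₂ ≫ i₂ = 𝟙 Z := by
  haveI := hG.1; haveI := hG.2.1; haveI := hH.1; haveI := hH.2.1
  obtain ⟨h1, h2⟩ := tensor_props G H
  let Z : CommGrp 𝒞 := CommGrp.mk (G.X ⊗ H.X)
  haveI : IsMonHom (fst G.X H.X) := ⟨by simp, by simp⟩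
  haveI : IsMonHom (snd G.X H.X) := ⟨by simp, by simp⟩
  have hl : ∀ {T : CommGrp 𝒞} (f : T ⟶ G) (g : T ⟶ H), IsMonHom (lift (val f) (val g)) := fun f g =>
    ⟨by
      apply CartesianMonoidalCategory.hom_ext
      · rw [Category.assoc, lift_fst, IsMonHom.one_hom, IsMonHom.one_hom]
      · rw [Category.assoc, lift_snd, IsMonHom.one_hom, IsMonHom.one_hom],
    by
      apply CartesianMonoidalCategory.hom_ext
      · rw [Category.assoc, lift_fst, IsMonHom.mul_hom, Category.assoc, IsMonHom.mul_hom, ← Category.assoc,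
          tensorHom_comp_tensorHom, lift_fst]
      · rw [Category.assoc, lift_snd, IsMonHom.mul_hom, Category.assoc, IsMonHom.mul_hom, ← Category.assoc,
          tensorHom_comp_tensorHom, lift_snd]⟩
  haveI : IsMonHom (lift (𝟙 G.X) (1 : G.X ⟶ H.X)) := hl (𝟙 G) 0
  haveI : IsMonHom (lift (1 : H.X ⟶ G.X) (𝟙 H.X)) := hl 0 (𝟙 H)
  refine ⟨Z, homOf (G := Z) (fst G.X H.X), homOf (G := Z) (snd G.X H.X), homOf (H := Z) (lift (𝟙 G.X) 1),
    homOf (H := Z) (lift 1 (𝟙 H.X)), h1, h2, ?_, ?_, ?_, ?_, ?_⟩ <;> apply val_ext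
  · exact lift_fst _ _
  · exact lift_snd _ _
  · exact lift_fst _ _
  · exact lift_snd _ _
  · show (fst G.X H.X ≫ lift (𝟙 G.X) 1) * (snd G.X H.X ≫ lift 1 (𝟙 H.X)) = 𝟙 (G.X ⊗ H.X)
    apply CartesianMonoidalCategory.hom_ext
    · rw [MonObj.mul_comp, Category.assoc, Category.assoc, lift_fst, lift_fst, Category.comp_id, MonObj.comp_one,
        _root_.mul_one, Category.id_comp]
    · rw [MonObj.mul_comp, Category.assoc, Category.assoc, lift_snd, lift_snd, Category.comp_id, MonObj.comp_one,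
        _root_.one_mul, Category.id_comp]

theorem exists_pow {A : CommGrp 𝒞} (hA : Mem P A) (n : ℕ) :
    ∃ (Z : CommGrp 𝒞) (pr : Fin n → (Z ⟶ A)) (inj : Fin n → (A ⟶ Z)), Mem P Z ∧
      (∀ i, inj i ≫ pr i = 𝟙 A) ∧ (∀ i j, i ≠ j → inj i ≫ pr j = 0) ∧ ∑ i, pr i ≫ inj i = 𝟙 Z := by
  induction n with
  | zero =>
    let Z : CommGrp 𝒞 := CommGrp.mk (𝟙_ 𝒞)
    haveI : IsProper Z.X.hom := inferInstanceAs (IsProper (𝟙 _))
    haveI : GeometricallyReduced Z.X.hom := GrpSch.geometricallyReduced_of_smooth_field (𝟙 (Spec (CommRingCat.of k)))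
    haveI : ConnectedSpace Z.X.left := inferInstanceAs (ConnectedSpace (PrimeSpectrum k))
    haveI : GeometricallyIntegral Z.X.hom := H4.HomImage.geometricallyIntegral_of_connected Z.X
    have h0 : ∀ f : Z ⟶ Z, f = 0 := fun f => val_ext (toUnit_unique _ _)
    exact ⟨Z, fun i => i.elim0, fun i => i.elim0, mem_of_jointMono hA (fun i : Fin 0 => i.elim0) (fun f _ => h0 f),
      fun i => i.elim0, fun i => i.elim0, by rw [h0 (𝟙 Z)]; simp⟩
  | succ n ih =>
    obtain ⟨Z, pr, inj, hZ, hii, hij, hsum⟩ := ih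
    obtain ⟨W, p₁, p₂, i₁, i₂, hWp, hWi, h11, h12, h21, h22, hW⟩ := exists_prod hA hZ
    let PR : Fin (n + 1) → (W ⟶ A) := Fin.cons p₁ fun i => p₂ ≫ pr i
    let IN : Fin (n + 1) → (A ⟶ W) := Fin.cons i₁ fun i => inj i ≫ i₂
    have hsum' : ∑ i, PR i ≫ IN i = 𝟙 W := by
      simp only [PR, IN]
      rw [Fin.sum_univ_succ]
      simp only [Fin.cons_zero, Fin.cons_succ, Category.assoc]
      have : ∑ i, p₂ ≫ pr i ≫ inj i ≫ i₂ = p₂ ≫ (∑ i, pr i ≫ inj i) ≫ i₂ := by
        rw [Preadditive.sum_comp, Preadditive.comp_sum]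
        simp only [Category.assoc]
      rw [this, hsum, Category.id_comp, hW]
    haveI := hWp; haveI := hWi
    refine ⟨W, PR, IN, mem_of_jointMono hA PR (fun f hf => ?_), ?_, ?_, hsum'⟩
    · rw [← Category.comp_id f, ← hsum', Preadditive.comp_sum]
      exact Finset.sum_eq_zero fun i _ => by rw [← Category.assoc, hf i, Limits.zero_comp]
    · refine Fin.cases ?_ (fun i => ?_)
      · simpa [PR, IN] using h11
      · simp [PR, IN, reassoc_of% h22, hii]
    · refine Fin.cases (Fin.cases (fun h => absurd rfl h) (fun j _ => ?_)) (fun i => Fin.cases (fun _ => ?_) (fun j h => ?_))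
      · simp [PR, IN, reassoc_of% h12]
      · simp [PR, IN, h21]
      · simp [PR, IN, reassoc_of% h22, hij i j (fun e => h (e ▸ rfl))]

omit [Finite k] in
/-- Equality of points of a power. -/
theorem eq_of_comp_pr {A Z : CommGrp 𝒞} {n : ℕ} {pr : Fin n → (Z ⟶ A)} {inj : Fin n → (A ⟶ Z)}
    (hsum : ∑ i, pr i ≫ inj i = 𝟙 Z) {T : 𝒞} (x y : T ⟶ Z.X) (h : ∀ i, x ≫ val (pr i) = y ≫ val (pr i)) : x = y := by
  have e := comp_sum_congr Finset.univ (fun i => pr i ≫ inj i) x y fun i _ => by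
    rw [val_comp, reassoc_of% (h i)]
  rw [hsum, val_id, Category.comp_id, Category.comp_id] at e
  exact e

/-- The morphism into a power with given components. -/
theorem sum_comp_pr {A Z T : CommGrp 𝒞} {n : ℕ} {pr : Fin n → (Z ⟶ A)} {inj : Fin n → (A ⟶ Z)}
    (hii : ∀ i, inj i ≫ pr i = 𝟙 A) (hij : ∀ i j, i ≠ j → inj i ≫ pr j = 0) (f : Fin n → (T ⟶ A)) (j : Fin n) :
    (∑ i, f i ≫ inj i) ≫ pr j = f j := by
  rw [Preadditive.sum_comp, Finset.sum_eq_single j (fun i _ hi => by rw [Category.assoc, hij i j hi, Limits.comp_zero])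
    (fun h => absurd (Finset.mem_univ j) h), Category.assoc, hii, Category.comp_id]

/-! ### Images and quotients -/

theorem cancel_cover {G H R : CommGrp 𝒞} (p : G ⟶ H) [Flat (val p).left] [Surjective (val p).left]
    [LocallyOfFinitePresentation (val p).left] {a b : H ⟶ R} (h : p ≫ a = p ≫ b) : a = b :=
  val_ext (cancel_over (val p) (congrArg val h))

theorem props_of_cover {G C : CommGrp 𝒞} [IsProper G.X.hom] [GeometricallyIntegral G.X.hom] (p : G ⟶ C)
    [LocallyOfFiniteType C.X.hom] [Flat (val p).left] [Surjective (val p).left] :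
    IsProper C.X.hom ∧ GeometricallyIntegral C.X.hom := by
  haveI : IsSeparated C.X.hom := GrpSch.isSeparated_of_field C.X
  haveI : IsProper C.X.hom :=
    { toIsSeparated := inferInstance
      toUniversallyClosed := by
        haveI : UniversallyClosed ((val p).left ≫ C.X.hom) := by rw [Over.w (val p)]; infer_instance
        exact UniversallyClosed.of_comp_surjective (val p).left C.X.hom
      toLocallyOfFiniteType := inferInstance }
  haveI : GeometricallyReduced C.X.hom := by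
    refine ⟨fun K _ y Q p' q h => ?_⟩
    haveI : IsReduced (pullback G.X.hom y) :=
      GeometricallyReduced.geometrically_isReduced _ _ _ (.of_hasPullback _ _)
    let t : pullback G.X.hom y ⟶ Q := h.lift (pullback.fst G.X.hom y ≫ (val p).left) (pullback.snd G.X.hom y)
      (by rw [Category.assoc, Over.w (val p), pullback.condition])
    have hsq : IsPullback (pullback.fst G.X.hom y) t (val p).left p' := by
      refine IsPullback.of_bot ?_ (h.lift_fst _ _ _).symm h
      rw [h.lift_snd, Over.w (val p)]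
      exact IsPullback.of_hasPullback G.X.hom y
    haveI : Flat t := MorphismProperty.of_isPullback hsq ‹_›
    haveI : Surjective t := MorphismProperty.of_isPullback hsq ‹_›
    exact Lib.CurvField.isReduced_of_flat_surjective t
  haveI : IsIntegral G.X.left := GeometricallyIntegral.isIntegral_of_subsingleton G.X.hom
  haveI : ConnectedSpace C.X.left := (val p).left.surjective.connectedSpace (val p).left.continuous
  exact ⟨inferInstance, H4.HomImage.geometricallyIntegral_of_connected C.X⟩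

theorem exists_image {G H : CommGrp 𝒞} (hG : Mem P G) [LocallyOfFiniteType H.X.hom] (f : G ⟶ H) :
    ∃ (C : CommGrp 𝒞) (p : G ⟶ C) (i : C ⟶ H), Mem P C ∧ p ≫ i = f ∧ Flat (val p).left ∧
      Surjective (val p).left ∧ LocallyOfFinitePresentation (val p).left ∧ IsClosedImmersion (val i).left ∧
      ∀ (R : CommGrp 𝒞) (g : G ⟶ R), (∀ (T : 𝒞) (x : T ⟶ G.X), x ≫ val f = 1 → x ≫ val g = 1) →
        ∃ h : C ⟶ R, p ≫ h = g := by
  haveI := hG.1; haveI := hG.2.1
  obtain ⟨K, _, _, j, hj, hK, -, -⟩ := CommAlgGrp.exists_kernel (val f)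
  obtain ⟨C₀, gC, p, i, hp, hi, hpi, hpf, hps, hpl, hci, hKp⟩ := CommAlgGrp.exists_image (val f) hK
  haveI := hp; haveI := hi; haveI := hci; haveI := hpf; haveI := hps; haveI := hpl
  haveI : Mono i := Over.mono_of_mono_left i
  haveI : IsCommMonObj C₀ := CommAlgGrp.isCommMonObj_of_mono i
  let C : CommGrp 𝒞 := CommGrp.mk C₀
  let p' : G ⟶ C := homOf (H := C) p
  haveI : LocallyOfFiniteType C.X.hom := by
    show LocallyOfFiniteType C₀.hom
    rw [← Over.w i]; infer_instance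
  haveI : Flat (val p').left := hpf
  haveI : Surjective (val p').left := hps
  haveI : LocallyOfFinitePresentation (val p').left := hpl
  obtain ⟨hC1, hC2⟩ := props_of_cover p'
  haveI := hC1; haveI := hC2
  refine ⟨C, p', homOf (G := C) i, mem_of_epi hG p' (fun f h => cancel_cover p' (h.trans Limits.comp_zero.symm)),
    val_ext hpi, hpf, hps, hpl, hci, fun R g hg => ?_⟩
  haveI := hj
  obtain ⟨h, hh, hph⟩ := CommAlgGrp.exists_desc_of_kernel p hKp (val g) (hg K j (kernel_comp hK))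
  haveI := hh
  exact ⟨homOf (G := C) h, val_ext hph⟩

theorem exists_coker {G : CommGrp 𝒞} (hG : Mem P G) {K : 𝒞} [GrpObj K] (i : K ⟶ G.X) [IsMonHom i]
    [IsClosedImmersion i.left] :
    ∃ (Q : CommGrp 𝒞) (q : G ⟶ Q), Mem P Q ∧ Flat (val q).left ∧ Surjective (val q).left ∧
      LocallyOfFinitePresentation (val q).left ∧ AlgGrp.IsKernel i (val q) := by
  haveI := hG.1; haveI := hG.2.1
  obtain ⟨Q₀, gQ, hQc, q, hq, hqf, hqs, hql, hK, hQl, -⟩ := CommAlgGrp.exists_quotient i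
  haveI := hq; haveI := hqf; haveI := hqs; haveI := hql
  let Q : CommGrp 𝒞 := CommGrp.mk Q₀
  let q' : G ⟶ Q := homOf (H := Q) q
  haveI : LocallyOfFiniteType Q.X.hom := hQl
  haveI : Flat (val q').left := hqf
  haveI : Surjective (val q').left := hqs
  haveI : LocallyOfFinitePresentation (val q').left := hql
  obtain ⟨h1, h2⟩ := props_of_cover q'
  haveI := h1; haveI := h2
  exact ⟨Q, q', mem_of_epi hG q' (fun f h => cancel_cover q' (h.trans Limits.comp_zero.symm)), hqf, hqs, hql, hK⟩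

end Groth.Agent.H48.AVCat
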