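import Groth.Agent.H48.AVCat.Basic
import Groth.Agent.H63.HomLattice
import Groth.Agent.H63.Retraction
import Groth.Agent.H63.End0Regular
import Groth.Agent.Lib.GrpQ.MonoClosed
import Mathlib.RingTheory.SimpleModule.InjectiveProjective

/-!
The functor `X ↦ Hom(X, A)` on abelian varieties over a finite field with Frobenius killed by `P`.
-/

set_option autoImplicit false
set_option linter.style.haveILetI false

universe u

open CategoryTheory CategoryTheory.Limits MonoidalCategory CartesianMonoidalCategory MonObj GrpObj AlgebraicGeometry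
open Groth.Agent.Lib Groth.Agent.Lib.GrpQ Groth.Agent.Lib.GrpQ.FfMono

namespace Groth.Agent.H48.AVCat

variable {k : Type u} [Field k] [Finite k]

local notation "𝒞" => Over (Spec (CommRingCat.of k))

/-- A family of homomorphisms separating points. -/
def JointMono {G A : CommGrp 𝒞} {n : ℕ} (ψ : Fin n → (G ⟶ A)) : Prop :=
  ∀ (T : 𝒞) (x y : T ⟶ G.X), (∀ i, x ≫ val (ψ i) = y ≫ val (ψ i)) → x = y

/-- `A` is a cogenerator. -/
def C1 (P : Polynomial ℤ) (A : CommGrp 𝒞) : Prop :=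
  ∀ Z, Mem P Z → ∃ (n : ℕ) (ψ : Fin n → (Z ⟶ A)), JointMono ψ

/-- `A` is injective. -/
def C2 (P : Polynomial ℤ) (A : CommGrp 𝒞) : Prop :=
  ∀ X Y, Mem P X → Mem P Y → ∀ φ : X ⟶ Y, IsClosedImmersion (val φ).left → ∀ f : X ⟶ A, ∃ g : Y ⟶ A, φ ≫ g = f

/-- `X ↦ Hom(X, A)` is fully faithful. -/
def A1 (P : Polynomial ℤ) (A : CommGrp 𝒞) : Prop :=
  ∀ X Y : CommGrp 𝒞, Mem P X → Mem P Y →
    (∀ f g : X ⟶ Y, (∀ φ : Y ⟶ A, f ≫ φ = g ≫ φ) → f = g) ∧
      ∀ g : (Y ⟶ A) →+ (X ⟶ A), (∀ (φ : Y ⟶ A) (s : A ⟶ A), g (φ ≫ s) = g φ ≫ s) →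
        ∃ f : X ⟶ Y, ∀ φ : Y ⟶ A, g φ = f ≫ φ

variable {P : Polynomial ℤ} {A : CommGrp (Over (Spec (CommRingCat.of k)))}

theorem hom_finite {X Y : CommGrp 𝒞} (hX : Mem P X) (hY : Mem P Y) : Module.Finite ℤ (X ⟶ Y) := by
  haveI := hX.1; haveI := hX.2.1; haveI := hY.1; haveI := hY.2.1
  obtain ⟨l, hlp, hl⟩ := H63.HomLattice.exists_prime_ne_zero k
  haveI : Fact l.Prime := ⟨hlp⟩
  exact H63.HomLattice.moduleFinite (AlgebraicClosure k) X.X Y.X l hl

theorem exists_generators {X Y : CommGrp 𝒞} (hX : Mem P X) (hY : Mem P Y) :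
    ∃ (n : ℕ) (r : Fin n → (X ⟶ Y)), ∀ f : X ⟶ Y, ∃ c : Fin n → ℤ, ∑ i, c i • r i = f := by
  haveI := hom_finite hX hY
  obtain ⟨n, r, hr⟩ := Module.Finite.exists_fin (R := ℤ) (M := X ⟶ Y)
  refine ⟨n, r, fun f => ?_⟩
  obtain ⟨c, hc⟩ := (Submodule.mem_span_range_iff_exists_fun ℤ).1 (hr ▸ Submodule.mem_top (x := f))
  exact ⟨c, hc⟩

/-- (c₁) ⇒ (a₁). -/
theorem a1_of_c1 (hA : Mem P A) (hc : C1 P A) : A1 P A := by
  intro X Y hX hY
  obtain ⟨n, ψ, hψ⟩ := hc Y hY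
  have huniq : ∀ f g : X ⟶ Y, (∀ φ : Y ⟶ A, f ≫ φ = g ≫ φ) → f = g := fun f g h =>
    val_ext (hψ X.X (val f) (val g) fun i => congrArg val (h (ψ i)))
  refine ⟨huniq, fun g hg => ?_⟩
  obtain ⟨Z, pr, inj, hZ, hii, hij, hsum⟩ := exists_pow hA n
  let emb : Y ⟶ Z := ∑ i, ψ i ≫ inj i
  have hι : ∀ i, emb ≫ pr i = ψ i := sum_comp_pr hii hij ψ
  haveI := hZ.1; haveI := hY.1; haveI := hX.1
  haveI : Mono (val emb) := ⟨fun {T} x y h => hψ T x y fun i => by
    rw [← hι i, val_comp, reassoc_of% h]⟩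
  haveI : IsProper ((val emb).left ≫ Z.X.hom) := by rw [Over.w (val emb)]; infer_instance
  haveI : IsProper (val emb).left := IsProper.of_comp (val emb).left Z.X.hom
  haveI : IsClosedImmersion (val emb).left := MonoClosed.isClosedImmersion_of_mono (val emb)
  obtain ⟨Q, q, hQ, -, -, -, hker⟩ := exists_coker hZ (val emb)
  obtain ⟨m, θ, hθ⟩ := hc Q hQ
  let F : X ⟶ Z := ∑ i, g (ψ i) ≫ inj i
  have hιq : emb ≫ q = 0 := val_ext (kernel_comp hker)
  have hFq : val F ≫ val q = 1 := by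
    refine hθ X.X _ 1 fun j => ?_
    rw [MonObj.one_comp, Category.assoc]
    refine (congrArg val (show F ≫ q ≫ θ j = 0 from ?_)).trans rfl
    have e : ∀ Φ : Fin n → (Y ⟶ A), (∑ i, Φ i ≫ (inj i ≫ q ≫ θ j)) = (∑ i, Φ i ≫ inj i) ≫ q ≫ θ j := fun Φ => by
      rw [Preadditive.sum_comp]
      simp only [Category.assoc]
    calc F ≫ q ≫ θ j = ∑ i, g (ψ i) ≫ (inj i ≫ q ≫ θ j) := by
          rw [Preadditive.sum_comp]; simp only [Category.assoc]
      _ = g (∑ i, ψ i ≫ (inj i ≫ q ≫ θ j)) := by rw [map_sum]; simp only [hg]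
      _ = g (emb ≫ q ≫ θ j) := by rw [e]
      _ = 0 := by rw [reassoc_of% hιq, Limits.zero_comp, map_zero]
  obtain ⟨f₀, hf₀⟩ := (mem_kernel hker (val F)).2 hFq
  haveI : IsMonHom f₀ := CommAlgGrp.isMonHom_of_comp_mono (val emb) (val F) f₀ hf₀
  let f : X ⟶ Y := homOf f₀
  have hf : f ≫ emb = F := val_ext hf₀
  have hfψ : ∀ i, f ≫ ψ i = g (ψ i) := fun i => by
    rw [← hι i, ← Category.assoc, hf, hι i]
    exact sum_comp_pr hii hij _ i
  refine ⟨f, fun φ => ?_⟩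
  -- enlarge the family by `φ` and compare
  obtain ⟨Z', pr', inj', hZ', hii', hij', hsum'⟩ := exists_pow hA (n + 1)
  let ψ' : Fin (n + 1) → (Y ⟶ A) := Fin.cons φ ψ
  let emb' : Y ⟶ Z' := ∑ i, ψ' i ≫ inj' i
  have hι' : ∀ i, emb' ≫ pr' i = ψ' i := sum_comp_pr hii' hij' ψ'
  haveI := hZ'.1
  haveI : Mono (val emb') := ⟨fun {T} x y h => hψ T x y fun i => by
    have e : ψ i = emb' ≫ pr' i.succ := (hι' i.succ).symm
    rw [e, val_comp, reassoc_of% h]⟩
  haveI : IsProper ((val emb').left ≫ Z'.X.hom) := by rw [Over.w (val emb')]; infer_instance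
  haveI : IsProper (val emb').left := IsProper.of_comp (val emb').left Z'.X.hom
  haveI : IsClosedImmersion (val emb').left := MonoClosed.isClosedImmersion_of_mono (val emb')
  obtain ⟨Q', q', hQ', -, -, -, hker'⟩ := exists_coker hZ' (val emb')
  obtain ⟨m', θ', hθ'⟩ := hc Q' hQ'
  let F' : X ⟶ Z' := ∑ i, g (ψ' i) ≫ inj' i
  have hιq' : emb' ≫ q' = 0 := val_ext (kernel_comp hker')
  have hFq' : val F' ≫ val q' = 1 := by
    refine hθ' X.X _ 1 fun j => ?_
    rw [MonObj.one_comp, Category.assoc]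
    refine (congrArg val (show F' ≫ q' ≫ θ' j = 0 from ?_)).trans rfl
    calc F' ≫ q' ≫ θ' j = ∑ i, g (ψ' i) ≫ (inj' i ≫ q' ≫ θ' j) := by
          rw [Preadditive.sum_comp]; simp only [Category.assoc]
      _ = g (∑ i, ψ' i ≫ (inj' i ≫ q' ≫ θ' j)) := by rw [map_sum]; simp only [hg]
      _ = g (emb' ≫ q' ≫ θ' j) := by rw [Preadditive.sum_comp]; simp only [Category.assoc]
      _ = 0 := by rw [reassoc_of% hιq', Limits.zero_comp, map_zero]
  obtain ⟨f₁, hf₁⟩ := (mem_kernel hker' (val F')).2 hFq'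
  haveI : IsMonHom f₁ := CommAlgGrp.isMonHom_of_comp_mono (val emb') (val F') f₁ hf₁
  have hf₁' : ∀ i, homOf f₁ ≫ ψ' i = g (ψ' i) := fun i => by
    rw [← hι' i, ← Category.assoc, show homOf f₁ ≫ emb' = F' from val_ext hf₁, hι' i]
    exact sum_comp_pr hii' hij' _ i
  have e : homOf f₁ = f := val_ext (hψ X.X _ _ fun i =>
    congrArg val ((hf₁' i.succ).trans (hfψ i).symm))
  have h0 := hf₁' 0
  rw [e] at h0
  exact h0.symm

/-- (a₁) ⇒ (c₁). -/
theorem c1_of_a1 (hA : Mem P A) (ha : A1 P A) : C1 P A := by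
  intro Q hQ
  obtain ⟨n, r, hr⟩ := exists_generators hQ hA
  obtain ⟨Z, pr, inj, hZ, hii, hij, hsum⟩ := exists_pow hA n
  let F : Q ⟶ Z := ∑ i, r i ≫ inj i
  haveI := hZ.1
  obtain ⟨C, p, i, hC, hpi, hpf, hps, hpl, hic, -⟩ := exists_image hQ F
  haveI := hpf; haveI := hps; haveI := hpl; haveI := hic
  haveI : Mono (val i) := Over.mono_of_mono_left _
  let pre : (C ⟶ A) →+ (Q ⟶ A) := AddMonoidHom.mk' (fun φ => p ≫ φ) (fun a b => Preadditive.comp_add _ _ _ p a b)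
  have hbij : Function.Bijective pre := by
    refine ⟨fun a b h => cancel_cover p h, fun f => ?_⟩
    obtain ⟨c, rfl⟩ := hr f
    refine ⟨∑ j, c j • (i ≫ pr j), ?_⟩
    show p ≫ _ = _
    rw [Preadditive.comp_sum]
    refine Finset.sum_congr rfl fun j _ => ?_
    rw [Preadditive.comp_zsmul, ← Category.assoc, hpi]
    exact congrArg (c j • ·) (sum_comp_pr hii hij r j)
  let e : (C ⟶ A) ≃+ (Q ⟶ A) := AddEquiv.ofBijective pre hbij
  obtain ⟨f, hf⟩ := (ha C Q hC hQ).2 e.symm.toAddMonoidHom fun φ s => by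
    show e.symm (φ ≫ s) = e.symm φ ≫ s
    refine e.injective ?_
    rw [e.apply_symm_apply]
    show φ ≫ s = p ≫ e.symm φ ≫ s
    rw [← Category.assoc]
    exact congrArg (· ≫ s) (e.apply_symm_apply φ).symm
  have hpf' : p ≫ f = 𝟙 Q := (ha Q Q hQ hQ).1 _ _ fun φ => by
    rw [Category.id_comp, Category.assoc, ← hf φ]
    exact e.apply_symm_apply φ
  refine ⟨n, r, fun T x y h => ?_⟩
  have hF : x ≫ val F = y ≫ val F := eq_of_comp_pr hsum _ _ fun j => by
    rw [Category.assoc, Category.assoc, ← val_comp, sum_comp_pr hii hij r j, h j]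
  rw [← hpi, val_comp, ← Category.assoc, ← Category.assoc, cancel_mono] at hF
  rw [← Category.comp_id x, ← Category.comp_id y, ← val_id, ← hpf', val_comp, reassoc_of% hF]

theorem eq_one_of_forall (hc : C1 P A) {Q : CommGrp 𝒞} (hQ : Mem P Q) {T : 𝒞} (x : T ⟶ Q.X)
    (h : ∀ r : Q ⟶ A, x ≫ val r = 1) : x = 1 := by
  obtain ⟨n, ψ, hψ⟩ := hc Q hQ
  exact hψ T x 1 fun i => by rw [h, MonObj.one_comp]

/-- (a₁) ⇒ (b₁). -/
theorem b1_of_a1 (hA : Mem P A) (ha : A1 P A) {X : CommGrp 𝒞} (hX : Mem P X) {H : 𝒞} [GrpObj H] (i : H ⟶ X.X)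
    [IsMonHom i] [IsClosedImmersion i.left] {T : 𝒞} (x : T ⟶ X.X)
    (hx : ∀ f : X ⟶ A, i ≫ val f = 1 → x ≫ val f = 1) : ∃ y : T ⟶ H, y ≫ i = x := by
  obtain ⟨Q, q, hQ, -, -, -, hker⟩ := exists_coker hX i
  refine (mem_kernel hker x).2 (eq_one_of_forall (c1_of_a1 hA ha) hQ _ fun r => ?_)
  rw [Category.assoc, ← val_comp]
  refine hx _ ?_
  rw [val_comp, ← Category.assoc, kernel_comp hker, MonObj.one_comp]

/-- (b₁), (b₂) ⇒ (c₂). -/
theorem c2_of_b (hA : Mem P A)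
    (hb1 : ∀ Z : CommGrp 𝒞, Mem P Z → ∀ (T : 𝒞) (x : T ⟶ Z.X), (∀ r : Z ⟶ A, x ≫ val r = 1) → x = 1)
    (hb2 : ∀ Z : CommGrp 𝒞, Mem P Z → ∀ M : AddSubgroup (Z ⟶ A), M.FiniteIndex →
      (∀ r ∈ M, ∀ s : A ⟶ A, r ≫ s ∈ M) → ∀ f : Z ⟶ A,
        (∀ (T : 𝒞) (x : T ⟶ Z.X), (∀ r ∈ M, x ≫ val r = 1) → x ≫ val f = 1) → f ∈ M) : C2 P A := by
  intro X Y hX hY φ hφ f
  haveI := hX.1; haveI := hX.2.1; haveI := hY.1; haveI := hY.2.1; haveI := hφ
  obtain ⟨p, d, hp, hd, hret⟩ := H63.Retraction.exists_retraction (val φ)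
  haveI := hp
  haveI : Mono (val φ) := Over.mono_of_mono_left _
  let M : AddSubgroup (X ⟶ A) :=
    (AddMonoidHom.mk' (fun g : Y ⟶ A => φ ≫ g) (fun a b => Preadditive.comp_add _ _ _ φ a b)).range
  have hdM : ∀ r : X ⟶ A, d • r ∈ M := fun r => ⟨homOf p ≫ r, by
    show φ ≫ homOf p ≫ r = d • r
    refine val_ext ?_
    rw [val_comp, val_comp, val_homOf, ← Category.assoc, hret, MonObj.pow_comp, Category.id_comp]
    exact (EndAV.Hom.toHom_nsmul d r).symm⟩
  have hM : M.FiniteIndex := by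
    haveI := hom_finite hX hA
    haveI : Module.Finite ℤ ((X ⟶ A) ⧸ AddSubgroup.toIntSubmodule M) := inferInstance
    have ht : Module.IsTorsion ℤ ((X ⟶ A) ⧸ AddSubgroup.toIntSubmodule M) := by
      intro z
      obtain ⟨r, rfl⟩ := Submodule.Quotient.mk_surjective _ z
      refine ⟨⟨(d : ℤ), mem_nonZeroDivisors_of_ne_zero (Int.natCast_ne_zero.2 hd.ne')⟩, ?_⟩
      show (d : ℤ) • (Submodule.Quotient.mk r : (X ⟶ A) ⧸ AddSubgroup.toIntSubmodule M) = 0
      rw [← Submodule.Quotient.mk_smul, Submodule.Quotient.mk_eq_zero, natCast_zsmul]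
      exact hdM r
    haveI : Finite ((X ⟶ A) ⧸ M) := Module.finite_of_fg_torsion ((X ⟶ A) ⧸ AddSubgroup.toIntSubmodule M) ht
    exact AddSubgroup.finiteIndex_of_finite_quotient
  obtain ⟨g, hg⟩ := hb2 X hX M hM (by
    rintro _ ⟨g, rfl⟩ s
    exact ⟨g ≫ s, (show φ ≫ g ≫ s = (φ ≫ g) ≫ s from (Category.assoc _ _ _).symm)⟩) f fun T x hx => by
      have : x ≫ val φ = 1 := hb1 Y hY T _ fun r => by
        rw [Category.assoc, ← val_comp]
        exact hx _ ⟨r, rfl⟩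
      have hx1 : x = 1 := by rw [← cancel_mono (val φ), this, MonObj.one_comp]
      rw [hx1, MonObj.one_comp]
  exact ⟨g, hg⟩

/-- (a) ⇒ (b₂). -/
theorem b2_of_a (hA : Mem P A) (ha : A1 P A)
    (hes : ∀ (M : Type u) [AddCommGroup M] [Module (End A) M] [Module.Finite ℤ M] [Module.Free ℤ M],
      ∃ Y : CommGrp 𝒞, Mem P Y ∧ ∃ e : M ≃+ (Y ⟶ A), ∀ (s : End A) (m : M), e (s • m) = e m ≫ End.asHom s)
    {X : CommGrp 𝒞} (hX : Mem P X) (M : AddSubgroup (X ⟶ A)) (hMS : ∀ r ∈ M, ∀ s : A ⟶ A, r ≫ s ∈ M)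
    (f : X ⟶ A) (hf : ∀ (T : 𝒞) (x : T ⟶ X.X), (∀ r ∈ M, x ≫ val r = 1) → x ≫ val f = 1) : f ∈ M := by
  haveI := hX.1; haveI := hX.2.1; haveI := hA.1; haveI := hA.2.1
  letI : Module (End A) M :=
    { smul := fun s m => ⟨(m : X ⟶ A) ≫ End.asHom s, hMS _ m.2 _⟩
      one_smul := fun m => Subtype.ext (Category.comp_id _)
      mul_smul := fun s t m => Subtype.ext (Category.assoc _ _ _).symm
      smul_zero := fun s => Subtype.ext Limits.zero_comp
      smul_add := fun s a b => Subtype.ext (Preadditive.add_comp _ _ _ _ _ _)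
      add_smul := fun s t m => Subtype.ext (Preadditive.comp_add _ _ _ _ _ _)
      zero_smul := fun m => Subtype.ext Limits.comp_zero }
  haveI : Module.Finite ℤ (X ⟶ A) := hom_finite hX hA
  haveI : NoZeroSMulDivisors ℤ (X ⟶ A) := Groth.Agent.S15656.result k X.X A.X
  haveI : Module.Finite ℤ M := Module.Finite.equiv (LinearEquiv.refl ℤ (AddSubgroup.toIntSubmodule M))
  haveI : NoZeroSMulDivisors ℤ M := Function.Injective.noZeroSMulDivisors (Subtype.val : M → (X ⟶ A)) Subtype.val_injective rfl (fun _ _ => rfl)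
  haveI : Module.Free ℤ M := Module.free_of_finite_type_torsion_free'
  obtain ⟨Y, hY, e, he⟩ := hes M
  obtain ⟨h, hh⟩ := (ha X Y hX hY).2 ((M.subtype).comp e.symm.toAddMonoidHom) fun φ s => by
    show ((e.symm (φ ≫ s) : M) : X ⟶ A) = ((e.symm φ : M) : X ⟶ A) ≫ s
    have : e.symm (φ ≫ s) = (End.of s) • e.symm φ := e.injective (by rw [he, e.apply_symm_apply, e.apply_symm_apply])
    rw [this]; rfl
  have hinj : ∀ r : Y ⟶ A, h ≫ r = 0 → r = 0 := fun r hr => by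
    rw [← hh] at hr
    exact e.symm.map_eq_zero_iff.1 (Subtype.ext hr)
  haveI := hY.1
  obtain ⟨C, p, i, hC, hpi, hpf, hps, hpl, hic, hdesc⟩ := exists_image hX h
  haveI := hpf; haveI := hps; haveI := hpl; haveI := hic; haveI := hY.2.1; haveI := hC.1; haveI := hC.2.1
  obtain ⟨Q, q, hQ, -, -, -, hker⟩ := exists_coker hY (val i)
  have hq : q = 0 := (ha Y Q hY hQ).1 _ _ fun r => by
    rw [Limits.zero_comp]
    refine hinj _ ?_
    rw [← hpi, Category.assoc, ← Category.assoc i, show i ≫ q = 0 from val_ext (kernel_comp hker), Limits.zero_comp,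
      Limits.comp_zero]
  obtain ⟨j, hj⟩ := (mem_kernel hker (𝟙 Y.X)).2 (by rw [Category.id_comp, hq]; rfl)
  haveI : Mono (val i) := Over.mono_of_mono_left _
  haveI : IsMonHom j := CommAlgGrp.isMonHom_of_comp_mono (val i) (𝟙 Y.X) j hj
  have hji : homOf (G := Y) (H := C) j ≫ i = 𝟙 Y := val_ext hj
  obtain ⟨f', hf'⟩ := hdesc A f fun T x hx => hf T x fun r hr => by
    have : r = h ≫ e ⟨r, hr⟩ := by rw [← hh]; simp
    rw [this, val_comp, ← Category.assoc, hx, MonObj.one_comp]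
  have : f = h ≫ homOf (G := Y) (H := C) j ≫ f' := by
    rw [← hf', ← hpi, Category.assoc]
    congr 1
    have hij' : i ≫ homOf (G := Y) (H := C) j = 𝟙 C := val_ext (by
      rw [← cancel_mono (val i), ← val_comp, Category.assoc, hji, Category.comp_id, val_id, Category.id_comp])
    rw [← Category.assoc, hij', Category.id_comp]
  rw [this, ← hh]
  exact SetLike.coe_mem _

/-- A submodule of `Aᴿ`-homomorphisms is represented, given (c₁), (c₂). -/
theorem es_of_c2 (hA : Mem P A) (hc2 : C2 P A) (M : Type u) [AddCommGroup M] [Module (End A) M]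
    [Module.Finite ℤ M] {r : ℕ} (L : M →ₗ[End A] (Fin r → End A)) (hL : Function.Injective L) :
    ∃ X : CommGrp 𝒞, Mem P X ∧ ∃ e : M ≃+ (X ⟶ A), ∀ (s : End A) (m : M), e (s • m) = e m ≫ End.asHom s := by
  classical
  obtain ⟨R, pr, inj, hR, hii, hij, hsum⟩ := exists_pow hA r
  let h : M →+ (R ⟶ A) := AddMonoidHom.mk' (fun m => ∑ i, pr i ≫ End.asHom (L m i)) fun a b => by
    rw [← Finset.sum_add_distrib]
    refine Finset.sum_congr rfl fun i _ => ?_
    rw [map_add]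
    exact Preadditive.comp_add _ _ _ _ _ _
  have hs : ∀ (s : End A) (m : M), h (s • m) = h m ≫ End.asHom s := fun s m => by
    show ∑ i, pr i ≫ End.asHom (L (s • m) i) = (∑ i, pr i ≫ End.asHom (L m i)) ≫ End.asHom s
    rw [Preadditive.sum_comp, map_smul]
    exact Finset.sum_congr rfl fun i _ => (Category.assoc _ _ _).symm
  have hinj : Function.Injective h := fun a b hab => hL (funext fun j => by
    have e : ∀ m, inj j ≫ h m = End.asHom (L m j) := fun m => by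
      show inj j ≫ ∑ i, pr i ≫ End.asHom (L m i) = _
      rw [Preadditive.comp_sum, Finset.sum_eq_single j (fun i _ hi => by
        rw [← Category.assoc, hij j i (Ne.symm hi), Limits.zero_comp]) (fun hh => absurd (Finset.mem_univ j) hh),
        ← Category.assoc, hii, Category.id_comp]
    show End.asHom (L a j) = End.asHom (L b j)
    rw [← e a, ← e b, hab])
  obtain ⟨n, g, hg⟩ := Module.Finite.exists_fin (R := ℤ) (M := M)
  obtain ⟨Z, pn, injn, hZ, hii', hij', hsum'⟩ := exists_pow hA n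
  haveI := hZ.1
  obtain ⟨X, p, i, hX, hpi, hpf, hps, hpl, hic, -⟩ := exists_image hR (∑ j, h (g j) ≫ injn j : R ⟶ Z)
  haveI := hpf; haveI := hps; haveI := hpl; haveI := hic
  have hpij : ∀ j, p ≫ i ≫ pn j = h (g j) := fun j => by
    rw [← Category.assoc, hpi]
    exact sum_comp_pr hii' hij' _ j
  have hex : ∀ m, ∃ t : X ⟶ A, p ≫ t = h m := fun m => by
    obtain ⟨c, rfl⟩ := (Submodule.mem_span_range_iff_exists_fun ℤ).1 (hg ▸ Submodule.mem_top (x := m))
    refine ⟨∑ j, c j • (i ≫ pn j), ?_⟩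
    rw [Preadditive.comp_sum, map_sum]
    refine Finset.sum_congr rfl fun j _ => ?_
    rw [Preadditive.comp_zsmul, hpij, map_zsmul]
  choose t ht using hex
  let e : M →+ (X ⟶ A) := AddMonoidHom.mk' t fun a b =>
    cancel_cover p (by rw [Preadditive.comp_add, ht, ht, ht, map_add])
  have he : Function.Bijective e := by
    refine ⟨fun a b hab => hinj (by rw [← ht a, ← ht b]; exact congrArg (p ≫ ·) hab), fun φ => ?_⟩
    obtain ⟨G, hG⟩ := hc2 X Z hX hZ i hic φ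
    refine ⟨∑ j, (End.of (injn j ≫ G)) • g j, cancel_cover p ?_⟩
    show p ≫ t _ = p ≫ φ
    rw [ht, map_sum, ← hG]
    simp only [hs]
    have eG : G = ∑ j, pn j ≫ injn j ≫ G := by
      conv_lhs => rw [← Category.id_comp G, ← hsum', Preadditive.sum_comp]
      simp only [Category.assoc]
    conv_rhs => rw [eG, Preadditive.comp_sum, Preadditive.comp_sum]
    exact Finset.sum_congr rfl fun j _ => by rw [← hpij j]; simp [Category.assoc]
  refine ⟨X, hX, AddEquiv.ofBijective e he, fun s m => cancel_cover p ?_⟩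
  show p ≫ t (s • m) = p ≫ t m ≫ End.asHom s
  rw [ht, hs, ← Category.assoc, ht]

end Groth.Agent.H48.AVCat
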