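import Mathlib.RingTheory.SimpleModule.InjectiveProjective
import Mathlib.LinearAlgebra.TensorProduct.Tower
import Mathlib.RingTheory.TensorProduct.Basic
import Mathlib.LinearAlgebra.FreeModule.Basic
import Mathlib.RingTheory.Flat.Basic

/-!
A lattice over an order in a semisimple algebra embeds into a free module.
-/

set_option autoImplicit false

open TensorProduct

namespace Groth.Agent.H48.Lattice

theorem exists_embedding {S : Type*} [Ring S] [Module.Free ℤ S] [IsSemisimpleRing (ℚ ⊗[ℤ] S)]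
    (M : Type*) [AddCommGroup M] [Module S M] [Module.Finite ℤ M] [Module.Free ℤ M] :
    ∃ (r : ℕ) (L : M →ₗ[S] (Fin r → S)), Function.Injective L := by
  classical
  let act : ℚ ⊗[ℤ] S →+* Module.End ℤ (ℚ ⊗[ℤ] M) :=
    (Algebra.TensorProduct.lift (A := ℚ) (B := S) (C := Module.End ℤ (ℚ ⊗[ℤ] M))
      (((Module.toModuleEnd ℤ (ℚ ⊗[ℤ] M) : ℚ →+* _)).toIntAlgHom)
      (({ toFun := fun s => LinearMap.lTensor ℚ (Module.toModuleEnd ℤ M s)
          map_one' := by rw [map_one]; exact LinearMap.lTensor_id ℚ M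
          map_mul' := fun a b => by rw [map_mul]; exact LinearMap.lTensor_comp ℚ _ _
          map_zero' := by rw [map_zero]; exact LinearMap.lTensor_zero ℚ
          map_add' := fun a b => by rw [map_add]; exact LinearMap.lTensor_add ℚ _ _ } :
            S →+* Module.End ℤ (ℚ ⊗[ℤ] M)).toIntAlgHom)
      (fun c s => TensorProduct.ext' fun a m => by
        show c • LinearMap.lTensor ℚ (Module.toModuleEnd ℤ M s) (a ⊗ₜ[ℤ] m) =
          LinearMap.lTensor ℚ (Module.toModuleEnd ℤ M s) (c • (a ⊗ₜ[ℤ] m))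
        rw [TensorProduct.smul_tmul', LinearMap.lTensor_tmul, LinearMap.lTensor_tmul, TensorProduct.smul_tmul'])).toRingHom
  letI : Module (ℚ ⊗[ℤ] S) (ℚ ⊗[ℤ] M) := Module.compHom _ act
  have hact : ∀ (c : ℚ) (s : S) (a : ℚ) (m : M), (c ⊗ₜ[ℤ] s) • (a ⊗ₜ[ℤ] m) = (c * a) ⊗ₜ[ℤ] (s • m) := fun c s a m => by
    show (act (c ⊗ₜ[ℤ] s)) (a ⊗ₜ[ℤ] m) = _
    simp [act]
    show c • LinearMap.lTensor ℚ (DistribSMul.toLinearMap ℤ M s) (a ⊗ₜ[ℤ] m) = _
    rw [LinearMap.lTensor_tmul, TensorProduct.smul_tmul', smul_eq_mul]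
    rfl
  obtain ⟨n, g, hg⟩ := Module.Finite.exists_fin (R := ℤ) (M := M)
  have hspan : ⊤ ≤ Submodule.span (ℚ ⊗[ℤ] S) (Set.range fun j => (1 : ℚ) ⊗ₜ[ℤ] g j) := by
    rintro x -
    induction x using TensorProduct.induction_on with
    | zero => exact zero_mem _
    | add x y hx hy => exact add_mem hx hy
    | tmul a m =>
      obtain ⟨c, rfl⟩ := (Submodule.mem_span_range_iff_exists_fun ℤ).1 (hg ▸ Submodule.mem_top (x := m))
      rw [TensorProduct.tmul_sum]
      refine Submodule.sum_mem _ fun j _ => ?_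
      have : a ⊗ₜ[ℤ] (c j • g j) = (a ⊗ₜ[ℤ] ((c j : ℤ) : S)) • ((1 : ℚ) ⊗ₜ[ℤ] g j) := by
        rw [hact, mul_one, Int.cast_smul_eq_zsmul]
      rw [this]
      exact Submodule.smul_mem _ _ (Submodule.subset_span ⟨j, rfl⟩)
  let π : (Fin n → ℚ ⊗[ℤ] S) →ₗ[ℚ ⊗[ℤ] S] (ℚ ⊗[ℤ] M) := Fintype.linearCombination (ℚ ⊗[ℤ] S) fun j => (1 : ℚ) ⊗ₜ[ℤ] g j
  have hπ : Function.Surjective π := fun x => by
    obtain ⟨c, hc⟩ := (Submodule.mem_span_range_iff_exists_fun _).1 (hspan (Submodule.mem_top (x := x)))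
    exact ⟨c, by rw [Fintype.linearCombination_apply]; exact hc⟩
  haveI : Module.Projective (ℚ ⊗[ℤ] S) (ℚ ⊗[ℤ] M) := Module.projective_of_isSemisimpleRing _ _
  obtain ⟨j, hj⟩ := Module.projective_lifting_property π LinearMap.id hπ
  have hjinj : Function.Injective j := fun a b h => by
    rw [← LinearMap.id_apply (R := ℚ ⊗[ℤ] S) a, ← LinearMap.id_apply (R := ℚ ⊗[ℤ] S) b, ← hj, LinearMap.comp_apply,
      LinearMap.comp_apply, h]
  let ι : S →+* ℚ ⊗[ℤ] S := (Algebra.TensorProduct.includeRight : S →ₐ[ℤ] ℚ ⊗[ℤ] S).toRingHom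
  have hι : Function.Injective ι := Algebra.TensorProduct.includeRight_injective (A := ℚ) (B := S) Rat.intCast_injective
  -- denominators
  have hden : ∀ x : ℚ ⊗[ℤ] S, ∃ N : ℤ, N ≠ 0 ∧ ∃ s : S, N • x = ι s := by
    intro x
    induction x using TensorProduct.induction_on with
    | zero => exact ⟨1, one_ne_zero, 0, by simp⟩
    | tmul a s =>
      refine ⟨(a.den : ℤ), Int.natCast_ne_zero.2 a.den_nz, a.num • s, ?_⟩
      show (a.den : ℤ) • (a ⊗ₜ[ℤ] s) = (1 : ℚ) ⊗ₜ[ℤ] (a.num • s)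
      rw [TensorProduct.smul_tmul', ← TensorProduct.smul_tmul, zsmul_eq_mul, zsmul_eq_mul, mul_one, Int.cast_natCast,
        Rat.den_mul_eq_num]
    | add x y hx hy =>
      obtain ⟨N, hN, s, hs⟩ := hx
      obtain ⟨N', hN', t, ht⟩ := hy
      refine ⟨N * N', mul_ne_zero hN hN', N' • s + N • t, ?_⟩
      rw [map_add, map_zsmul, map_zsmul, ← hs, ← ht, smul_smul, smul_smul, smul_add, mul_comm N']
  choose N hN s hNs using fun (p : Fin n × Fin n) => hden (j ((1 : ℚ) ⊗ₜ[ℤ] g p.1) p.2)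
  let D : ℤ := ∏ p, N p
  have hD : D ≠ 0 := Finset.prod_ne_zero_iff.2 fun p _ => hN p
  have hrange : ∀ (m : M) (i : Fin n), ∃ t : S, ι t = D • j ((1 : ℚ) ⊗ₜ[ℤ] m) i := by
    intro m i
    obtain ⟨c, rfl⟩ := (Submodule.mem_span_range_iff_exists_fun ℤ).1 (hg ▸ Submodule.mem_top (x := m))
    refine ⟨∑ l, (c l * ∏ p ∈ Finset.univ.erase (l, i), N p) • s (l, i), ?_⟩
    rw [map_sum, TensorProduct.tmul_sum, map_sum, Finset.sum_apply, Finset.smul_sum]
    refine Finset.sum_congr rfl fun l _ => ?_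
    rw [map_zsmul, ← hNs, TensorProduct.tmul_smul, map_zsmul, Pi.smul_apply, smul_smul, smul_smul, mul_assoc,
      Finset.prod_erase_mul _ _ (Finset.mem_univ _), mul_comm (c l)]
  choose t ht using hrange
  refine ⟨n, { toFun := t, map_add' := fun a b => funext fun i => hι ?_, map_smul' := fun a m => funext fun i => hι ?_ }, ?_⟩
  · rw [Pi.add_apply, map_add, ht, ht, ht, TensorProduct.tmul_add, map_add, Pi.add_apply, smul_add]
  · have : j ((1 : ℚ) ⊗ₜ[ℤ] (a • m)) = ι a • j ((1 : ℚ) ⊗ₜ[ℤ] m) := by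
      rw [← map_smul]
      congr 1
      show _ = ((1 : ℚ) ⊗ₜ[ℤ] a) • _
      rw [hact, mul_one]
    rw [RingHom.id_apply, Pi.smul_apply, smul_eq_mul, map_mul, ht, ht, this, Pi.smul_apply, smul_eq_mul, mul_smul_comm]
  · intro a b hab
    have h1 : ∀ i, D • j ((1 : ℚ) ⊗ₜ[ℤ] a) i = D • j ((1 : ℚ) ⊗ₜ[ℤ] b) i := fun i => by
      rw [← ht, ← ht]; exact congrArg ι (congrFun hab i)
    have h2 : D • ((1 : ℚ) ⊗ₜ[ℤ] a) = D • ((1 : ℚ) ⊗ₜ[ℤ] b) := hjinj (by
      rw [map_zsmul, map_zsmul]; exact funext h1)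
    rw [← TensorProduct.tmul_smul, ← TensorProduct.tmul_smul] at h2
    have hmk : Function.Injective fun m : M => (1 : ℚ) ⊗ₜ[ℤ] m := by
      have h := (Module.Flat.rTensor_preserves_injective_linearMap (M := M) (Algebra.linearMap ℤ ℚ) Rat.intCast_injective).comp
        (TensorProduct.lid ℤ M).symm.injective
      convert h using 1
      funext m
      simp
    have h3 : D • a = D • b := hmk h2
    exact smul_right_injective M hD h3

end Groth.Agent.H48.Lattice
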